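import Mathlib.GroupTheory.FiniteAbelian.Basic
import Mathlib.Algebra.BigOperators.Fin
import Groth.Prelude.Def_Magnet4

/-!
# A grading separating a face of a finitely generated monoid
-/

open Magnet

namespace Groth.Agent.MagnetLib.Homotopy

universe w

/-- A functional not vanishing at an element of infinite order. -/
theorem exists_functional_pos {M : Type w} [AddCommGroup M] [AddGroup.FG M] (b : M)
    (hb : ∀ k : ℕ, k • b = 0 → k = 0) : ∃ ψ : M →+ ℤ, 0 < ψ b := by
  classical
  obtain ⟨n, ι, _, p, hp, e, ⟨f⟩⟩ := AddCommGroup.equiv_free_prod_directSum_zmod M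
  suffices ∃ j, (f b).1 j ≠ 0 by
    obtain ⟨j, hj⟩ := this
    let ψ : M →+ ℤ := (Finsupp.applyAddHom j).comp ((AddMonoidHom.fst _ _).comp f.toAddMonoidHom)
    rcases lt_or_gt_of_ne hj with h | h
    · exact ⟨-ψ, show 0 < -((f b).1 j) by omega⟩
    · exact ⟨ψ, h⟩
  by_contra h
  push Not at h
  have h1 : (f b).1 = 0 := Finsupp.ext h
  let k := ∏ i, p i ^ e i
  have hk : k • (f b).2 = 0 := by
    refine DFinsupp.ext fun i => ?_
    obtain ⟨c, hc⟩ : p i ^ e i ∣ k := Finset.dvd_prod_of_mem _ (Finset.mem_univ i)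
    show k • ((f b).2 i) = 0
    rw [hc, mul_comm, mul_smul, nsmul_eq_mul ((p i ^ e i : ℕ)), ZMod.natCast_self, zero_mul, smul_zero]
  have hkb : k • b = 0 := f.injective (Prod.ext
    (by rw [map_nsmul, map_zero, Prod.smul_fst, h1, smul_zero]; rfl)
    (by rw [map_nsmul, map_zero, Prod.smul_snd, hk]; rfl))
  have := hb k hkb
  exact absurd this (Finset.prod_ne_zero_iff.mpr fun i _ => pow_ne_zero _ (hp i).ne_zero)

/-- Gordan's alternative over the integers. -/
theorem gordan {M : Type w} [AddCommGroup M] [AddGroup.FG M] (n : ℕ) :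
    ∀ v : Fin n → M, (∀ c : Fin n → ℕ, ∑ i, c i • v i = 0 → c = 0) → ∃ φ : M →+ ℤ, ∀ i, 0 < φ (v i) := by
  induction n with
  | zero => exact fun v _ => ⟨0, fun i => i.elim0⟩
  | succ n ih =>
    intro v hv
    let b := v (Fin.last n)
    let a : Fin n → M := fun i => v i.castSucc
    have hv' : ∀ (c : Fin n → ℕ) (d : ℕ), ∑ i, c i • a i + d • b = 0 → c = 0 ∧ d = 0 := by
      intro c d h
      have := hv (Fin.snoc c d) (by rw [Fin.sum_univ_castSucc]; simpa [a, b] using h)
      exact ⟨funext fun i => by simpa using congrFun this i.castSucc, by simpa using congrFun this (Fin.last n)⟩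
    obtain ⟨φ, hφ⟩ := ih a fun c hc => (hv' c 0 (by simpa using hc)).1
    rcases lt_trichotomy 0 (φ b) with hb | hb | hb
    · exact ⟨φ, Fin.lastCases hb hφ⟩
    · obtain ⟨ψ, hψ⟩ := exists_functional_pos b fun k hk => (hv' 0 k (by simpa using hk)).2
      refine ⟨(1 + ∑ i, |ψ (a i)|) • φ + ψ, Fin.lastCases ?_ fun i => ?_⟩
      · show 0 < (1 + ∑ i, |ψ (a i)|) * φ b + ψ b
        rw [← hb]
        simpa using hψ
      · show 0 < (1 + ∑ i, |ψ (a i)|) * φ (a i) + ψ (a i)
        have h1 : |ψ (a i)| ≤ ∑ j, |ψ (a j)| :=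
          Finset.single_le_sum (f := fun j => |ψ (a j)|) (fun j _ => abs_nonneg _) (Finset.mem_univ i)
        have h2 := neg_abs_le (ψ (a i))
        have h3 : 1 ≤ φ (a i) := hφ i
        have h4 : 1 + ∑ j, |ψ (a j)| ≤ (1 + ∑ j, |ψ (a j)|) * φ (a i) :=
          le_mul_of_one_le_right (by linarith [abs_nonneg (ψ (a i))]) h3
        linarith
    · let P : M →+ M :=
        { toFun := fun x => (-φ b) • x + φ x • b
          map_zero' := by simp
          map_add' := fun x y => by rw [map_add, smul_add, add_smul]; abel }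
      have hPb : P b = 0 := by show (-φ b) • b + φ b • b = 0; rw [← add_smul]; simp
      obtain ⟨ψ, hψ⟩ := ih (fun i => P (a i)) fun c hc => by
        have hc' : ∑ i, (c i * (-φ b).toNat) • a i + (∑ i, c i * (φ (a i)).toNat) • b = 0 := by
          rw [← hc]
          rw [Finset.sum_smul, ← Finset.sum_add_distrib]
          refine Finset.sum_congr rfl fun i _ => ?_
          show _ = c i • ((-φ b) • a i + φ (a i) • b)
          rw [mul_smul, mul_smul, smul_add]
          congr 2
          · rw [← natCast_zsmul]; congr 1; omega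
          · rw [← natCast_zsmul]; congr 1; have := hφ i; omega
        have h := (hv' _ _ hc').1
        funext i
        rcases mul_eq_zero.mp (congrFun h i) with h0 | h0
        · exact h0
        · omega
      refine ⟨(1 + ∑ i, |φ (a i)|) • ψ.comp P - φ, Fin.lastCases ?_ fun i => ?_⟩
      · show 0 < (1 + ∑ i, |φ (a i)|) * ψ (P b) - φ b
        rw [hPb, map_zero, mul_zero]
        linarith
      · show 0 < (1 + ∑ i, |φ (a i)|) * ψ (P (a i)) - φ (a i)
        have h1 : |φ (a i)| ≤ ∑ j, |φ (a j)| :=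
          Finset.single_le_sum (f := fun j => |φ (a j)|) (fun j _ => abs_nonneg _) (Finset.mem_univ i)
        have h2 := le_abs_self (φ (a i))
        have h3 : 1 ≤ ψ (P (a i)) := hψ i
        have h4 : 1 + ∑ j, |φ (a j)| ≤ (1 + ∑ j, |φ (a j)|) * ψ (P (a i)) :=
          le_mul_of_one_le_right (by linarith [abs_nonneg (φ (a i))]) h3
        linarith

variable {M : Type} [AddCommGroup M] [AddGroup.FG M] {N F : AddSubmonoid M}

/-- A grading of a finitely generated monoid vanishing exactly on a given face. -/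
theorem exists_grading (hN : N.FG) (hF : IsFace N F) :
    ∃ L : N →+ ℕ, ∀ n : N, L n = 0 ↔ (n : M) ∈ F := by
  classical
  obtain ⟨s, hs⟩ := hN
  have hsN : ∀ x ∈ s, x ∈ N := fun x hx => hs ▸ AddSubmonoid.subset_closure hx
  let t := s.filter (fun x => x ∉ F)
  let G := AddSubgroup.closure (F : Set M)
  let v : Fin t.card → M ⧸ G := fun i => QuotientAddGroup.mk (t.equivFin.symm i : M)
  haveI : AddGroup.FG (M ⧸ G) := AddGroup.fg_of_surjective (f := QuotientAddGroup.mk' G) (QuotientAddGroup.mk'_surjective G)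
  have hG : ∀ x ∈ G, ∃ p ∈ F, ∃ q ∈ F, x + q = p := by
    intro x hx
    induction hx using AddSubgroup.closure_induction with
    | mem y hy => exact ⟨y, hy, 0, F.zero_mem, add_zero y⟩
    | zero => exact ⟨0, F.zero_mem, 0, F.zero_mem, add_zero 0⟩
    | add y z _ _ hy hz =>
      obtain ⟨p, hp, q, hq, e⟩ := hy
      obtain ⟨p', hp', q', hq', e'⟩ := hz
      exact ⟨p + p', F.add_mem hp hp', q + q', F.add_mem hq hq', by rw [← e, ← e']; abel⟩
    | neg y _ hy =>
      obtain ⟨p, hp, q, hq, e⟩ := hy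
      exact ⟨q, hq, p, hp, by rw [← e]; abel⟩
  obtain ⟨φ, hφ⟩ := gordan t.card v fun c hc => by
    let u : M := ∑ i, c i • (t.equivFin.symm i : M)
    have huN : ∀ i, (t.equivFin.symm i : M) ∈ N := fun i => hsN _ (Finset.mem_filter.mp (t.equivFin.symm i).2).1
    have hu : u ∈ G := by
      rw [← QuotientAddGroup.eq_zero_iff]
      rw [← hc]
      exact map_sum (QuotientAddGroup.mk' G) _ _
    obtain ⟨p, hp, q, hq, e⟩ := hG u hu
    have huF : u ∈ F := (hF.mem_of_add_mem u (N.sum_mem fun i _ => N.nsmul_mem (huN i) _) q (hF.le hq) (e ▸ hp)).1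
    funext i
    by_contra hi
    obtain ⟨k, hk⟩ := Nat.exists_eq_succ_of_ne_zero hi
    have h1 : u = (t.equivFin.symm i : M) + (k • (t.equivFin.symm i : M) + ∑ j ∈ Finset.univ.erase i, c j • (t.equivFin.symm j : M)) := by
      show ∑ j, c j • (t.equivFin.symm j : M) = _
      rw [← Finset.add_sum_erase _ _ (Finset.mem_univ i), hk, succ_nsmul', add_assoc]
    exact (Finset.mem_filter.mp (t.equivFin.symm i).2).2 (hF.mem_of_add_mem _ (huN i) _
      (N.add_mem (N.nsmul_mem (huN i) _) (N.sum_mem fun j _ => N.nsmul_mem (huN j) _)) (h1 ▸ huF)).1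
  let Φ : M →+ ℤ := φ.comp (QuotientAddGroup.mk' G)
  have hΦF : ∀ x ∈ F, Φ x = 0 := fun x hx => by
    show φ (QuotientAddGroup.mk x) = 0
    rw [(QuotientAddGroup.eq_zero_iff x).mpr (AddSubgroup.subset_closure hx), map_zero]
  have key : ∀ x ∈ N, 0 ≤ Φ x ∧ (Φ x = 0 → x ∈ F) := by
    intro x hx
    rw [← hs] at hx
    induction hx using AddSubmonoid.closure_induction with
    | mem y hy =>
      by_cases hyF : y ∈ F
      · exact ⟨(hΦF y hyF).ge, fun _ => hyF⟩
      · have hm : y ∈ t := Finset.mem_filter.mpr ⟨hy, hyF⟩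
        have := hφ (t.equivFin ⟨y, hm⟩)
        simp only [v, Equiv.symm_apply_apply] at this
        exact ⟨this.le, fun h => absurd h this.ne'⟩
    | zero => exact ⟨(map_zero Φ).ge, fun _ => F.zero_mem⟩
    | add y z _ _ hy hz =>
      refine ⟨by rw [map_add]; exact add_nonneg hy.1 hz.1, fun h => ?_⟩
      rw [map_add] at h
      obtain ⟨h1, h2⟩ := (add_eq_zero_iff_of_nonneg hy.1 hz.1).mp h
      exact F.add_mem (hy.2 h1) (hz.2 h2)
  refine ⟨{ toFun := fun n => (Φ n).toNat, map_zero' := by simp,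
            map_add' := fun a b => by
              rw [AddSubmonoid.coe_add, map_add, Int.toNat_add (key a a.2).1 (key b b.2).1] }, fun n => ?_⟩
  show (Φ n).toNat = 0 ↔ _
  have h := key n n.2
  refine ⟨fun h0 => h.2 (le_antisymm (Int.toNat_eq_zero.mp h0) h.1), fun hn => by rw [hΦF _ hn]; rfl⟩

end Groth.Agent.MagnetLib.Homotopy
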