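import Groth.Agent.MagnetLib.Avg.Lift
import Groth.Agent.MagnetLib.Homotopy.Gordan
import Groth.Agent.H28.FaceThick

/-!
# The deformation retraction of an attractor onto a face
-/

set_option linter.style.haveILetI false
set_option autoImplicit false

universe u

open CategoryTheory CategoryTheory.Limits MonoidalCategory CartesianMonoidalCategory MonObj AlgebraicGeometry
open Opposite Magnet

namespace Groth.Agent.MagnetLib.Homotopy

open H23.CharPts H23.AttrComapGrp

variable {S : Scheme.{u}} {M : Type} [AddCommGroup M] {N F : AddSubmonoid M} (L : N →+ ℕ)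

theorem chi_one {T : Over S} {K : Type} [AddCommMonoid K] (k : Multiplicative K) : chi (1 : T ⟶ AMonS S K) k = 1 := by
  rw [← eq_one_of_map_zero (1 : T ⟶ AMonS S K), chi_map]
  exact map_one _

/-- The point `n ↦ c ^ L n`. -/
noncomputable def pt (T : Over S) (c : Γ(T.left, ⊤)) : T ⟶ AMonS S N :=
  (exists_chi_eq (S := S) (T := T) (M := N)
    { toFun := fun n => c ^ L n.toAdd
      map_one' := by simp
      map_mul' := fun a b => by simp [pow_add] }).choose

theorem chi_pt (T : Over S) (c : Γ(T.left, ⊤)) (n : Multiplicative N) : chi (pt L T c) n = c ^ L n.toAdd := by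
  rw [pt, (exists_chi_eq (S := S) (T := T) (M := N) _).choose_spec]
  rfl

theorem comp_pt {T T' : Over S} (t : T' ⟶ T) (c : Γ(T.left, ⊤)) : t ≫ pt L T c = pt L T' (t.left.appTop c) := by
  refine chi_injective (MonoidHom.ext fun n => ?_)
  rw [chi_comp, chi_pt, chi_pt]
  exact map_pow t.left.appTop.hom c _

theorem pt_one (T : Over S) : pt L T 1 = 1 := by
  refine chi_injective (MonoidHom.ext fun n => ?_)
  rw [chi_pt, chi_one, one_pow]

theorem tr_equivariant {T : Over S} (m : T ⟶ AMonS S N) :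
    MonAct.IsEquivariant ((subAct S M N).prod (MonAct.trivial (AMonS S M) T))
      ((subAct S M N).prod (MonAct.trivial (AMonS S M) T)) (Avg.tr T m) := by
  rw [MonAct.isEquivariant_iff]
  intro V g w
  rw [← lift_comp_fst_snd w, MonAct.lift_prod_act_assoc, MonAct.lift_trivial_act, comp_lift, comp_lift,
    MonObj.comp_mul, MonObj.comp_mul, lift_fst, lift_fst, lift_snd, lift_snd, lift_snd_assoc, lift_snd_assoc,
    MonAct.lift_prod_act, MonAct.lift_trivial_act, subAct_point, subAct_point, _root_.mul_assoc]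

theorem tr_zero (hF : IsFace N F) (hL : ∀ n : N, L n = 0 ↔ (n : M) ∈ F) (T : Over S) :
    Avg.tr T (pt L T 0) = (AMonS.map S (AddSubmonoid.inclusion hF.le) ▷ T) ≫ (AMonS.faceMap S hF ▷ T) := by
  apply hom_ext_lift₂
  intro V b t
  rw [lift_whiskerRight_assoc, lift_whiskerRight, comp_lift, MonObj.comp_mul, lift_fst, lift_snd, lift_snd_assoc]
  congr 1
  refine chi_injective (MonoidHom.ext fun n => ?_)
  obtain ⟨n, rfl⟩ := Multiplicative.ofAdd.surjective n
  rw [chi_mul, chi_comp, chi_pt]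
  by_cases hn : (n : M) ∈ F
  · rw [H28.FaceThick.chi_face_mem N F _ n hn, chi_map]
    show _ * t.left.appTop ((0 : Γ(T.left, ⊤)) ^ L n) = _
    rw [(hL n).mpr hn, pow_zero, map_one, _root_.mul_one]
    rfl
  · rw [H28.FaceThick.chi_face_notMem N F _ n hn]
    show _ * t.left.appTop ((0 : Γ(T.left, ⊤)) ^ L n) = _
    rw [zero_pow (fun h => hn ((hL n).mp h)), map_zero, mul_zero]

theorem tr_map (hF : F ≤ N) (hL : ∀ n : N, L n = 0 ↔ (n : M) ∈ F) (T : Over S) (c : Γ(T.left, ⊤)) :
    Avg.tr T (pt L T c) ≫ (AMonS.map S (AddSubmonoid.inclusion hF) ▷ T) =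
      AMonS.map S (AddSubmonoid.inclusion hF) ▷ T := by
  apply hom_ext_lift₂
  intro V b t
  rw [comp_lift_assoc, MonObj.comp_mul, lift_fst, lift_snd, lift_snd_assoc, lift_whiskerRight, lift_whiskerRight]
  congr 1
  refine chi_injective (MonoidHom.ext fun f => ?_)
  rw [chi_map, chi_map, chi_mul, chi_comp, chi_pt]
  show _ * t.left.appTop (c ^ L (AddSubmonoid.inclusion hF f.toAdd)) = _
  rw [(hL _).mpr f.toAdd.2, pow_zero, map_one, _root_.mul_one]

theorem exists_homotopy [AddGroup.FG M] (hN : N.FG) (hF : IsFace N F) {X : Over S} (a : MonAct (AMonS S M) X) :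
    ∃ δ : ∀ T : Over S, (attr a N).obj (op T) → Γ(T.left, ⊤) → (attr a N).obj (op T),
      (∀ (T T' : Over S) (t : T' ⟶ T) (x : (attr a N).obj (op T)) (c : Γ(T.left, ⊤)),
          δ T' ((attr a N).map t.op x) (t.left.appTop c) = (attr a N).map t.op (δ T x c)) ∧
      (∀ (T : Over S) (x : (attr a N).obj (op T)),
          δ T x 0 = (attrMap a hF.le).app (op T) ((attrFace a hF).app (op T) x)) ∧
      (∀ (T : Over S) (x : (attr a N).obj (op T)), δ T x 1 = x) ∧
      (∀ (T : Over S) (y : (attr a F).obj (op T)) (c : Γ(T.left, ⊤)),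
          δ T ((attrMap a hF.le).app (op T) y) c = (attrMap a hF.le).app (op T) y) := by
  obtain ⟨L, hL⟩ := exists_grading hN hF
  refine ⟨fun T x c => ⟨Avg.tr T (pt L T c) ≫ x.1, (tr_equivariant (pt L T c)).comp x.2⟩,
    fun T T' t x c => Subtype.ext ?_, fun T x => Subtype.ext ?_, fun T x => Subtype.ext ?_, fun T y c => Subtype.ext ?_⟩
  · show Avg.tr T' (pt L T' (t.left.appTop c)) ≫ (AMonS S N ◁ t) ≫ x.1 = (AMonS S N ◁ t) ≫ Avg.tr T (pt L T c) ≫ x.1
    rw [← Category.assoc, ← Category.assoc]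
    congr 1
    apply hom_ext_lift₂
    intro V b s
    rw [comp_lift_assoc, lift_whiskerLeft, lift_whiskerLeft_assoc, comp_lift, MonObj.comp_mul, MonObj.comp_mul, lift_fst,
      lift_fst, lift_snd, lift_snd, lift_snd_assoc, lift_snd_assoc, ← comp_pt L t c, Category.assoc]
  · show Avg.tr T (pt L T 0) ≫ x.1 = (AMonS.map S (AddSubmonoid.inclusion hF.le) ▷ T) ≫ (AMonS.faceMap S hF ▷ T) ≫ x.1
    rw [tr_zero L hF hL, Category.assoc]
  · show Avg.tr T (pt L T 1) ≫ x.1 = x.1
    rw [show Avg.tr T (pt L T 1) = 𝟙 _ by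
      rw [Avg.tr, pt_one, MonObj.comp_one, _root_.mul_one, lift_fst_snd], Category.id_comp]
  · show Avg.tr T (pt L T c) ≫ (AMonS.map S (AddSubmonoid.inclusion hF.le) ▷ T) ≫ y.1 = _
    rw [← Category.assoc, tr_map L hF.le hL]
    rfl

end Groth.Agent.MagnetLib.Homotopy
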